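import Cfsg.Agent.H139.GUX.Twr

/-!
# S4537: the exceptional cases `p = 2`, `w ∈ {2, 4, 8}`, for `GU_n(q)`

* `exc_gu` : the hypothesis `hexc` of `H666.GU.suS_of` from the chain, the elementary abelian subgroups and the
  classification of the blocks by the families.
-/

set_option autoImplicit false
set_option linter.unusedSectionVars false

open Cfsg Polynomial
open scoped ComplexConjugate TensorProduct MatrixGroups

namespace Cfsg.Agent.H139.GUX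

open Cfsg.Agent.H577.GLB Cfsg.Agent.H577.GLB.Std Cfsg.Agent.H614 Cfsg.Agent.H623.GU Cfsg.Agent.H666.Clif
open Cfsg.Agent.H112.GLB Cfsg.Agent.H608.BlockRank Cfsg.Agent.H615.GU Cfsg.Agent.H614.GU Cfsg.Agent.H666.GU

universe u

variable {F K : Type u} [Field F] [Fintype F] [Field K] [Algebra F K] {θ : K →*₀ ℂ} {q M N : ℕ} [NeZero M]

/-- **The exceptional cases for `GU_n(q)`.** -/
theorem exc_gu (hF : Fintype.card F = q ^ 2) (h2 : (2 : F) ≠ 0) (h : CtxQ θ (-(q : ℤ)) M N)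
    (hs : ∀ h : F[X], h.Monic → h.natDegree ≤ N → (h.map (algebraMap F K)).Splits)
    (h67 : R67 θ (-(q : ℤ)) M 2 1) (t : Tow θ (-(q : ℤ)) M N 2 (fun n => GU n F q))
    (htyp : ∀ n hn, IsTypU q n (t.T n hn)) {𝔐 : Ideal AlgInt} (h𝔐 : IsPModular 2 𝔐) [𝔐.IsPrime] {m : ℕ}
    (hone : ∀ {n : ℕ} (hn : n ≤ N), 0 < n → n ≤ m → ∀ {B : Set (IrrCharacter (GU n F q))}, IsPBlock 𝔐 B →
      ∀ {χ : IrrCharacter (GU n F q)}, χ ∈ B → ∀ {s : LabZ (-(q : ℤ)) M m n}, (t.R n hn).IsLb χ s →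
      ∀ (ψ : IrrCharacter (GU n F q)) (s' : LabZ (-(q : ℤ)) M m n), (t.R n hn).IsLb ψ s' →
      SameFam (-(q : ℤ)) M 2 s.t s'.t → ψ ∈ B)
    {n : ℕ} (hn : n ≤ N) (hn0 : 0 < n) (hm : n ≤ m)
    {B : Set (IrrCharacter (GU n F q))} (hB : IsPBlock 𝔐 B) {B' : Set (IrrCharacter (suS F n q))}
    (hB' : IsPBlock 𝔐 B') (hcov : Cov (suS F n q) B B') {χ : IrrCharacter (GU n F q)} (hχ : χ ∈ B)
    {s : LabZ (-(q : ℤ)) M m n} (hχs : (t.R n hn).IsLb χ s) (hsp : POnly M 2 s.t) (δ₀ : ZMod M)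
    (h₁ : ∀ δ, 0 < Std.bsz (s.t δ) → SameZ (-(q : ℤ)) M δ₀ δ)
    (hw : Std.bsz (s.t δ₀) = 2 ∨ Std.bsz (s.t δ₀) = 4 ∨ Std.bsz (s.t δ₀) = 8)
    (hNz : ∀ a : ZMod M, SF (-(q : ℤ)) M 2 s a → ∃ x : GU n F q, H624.Sl.Nz 𝔐
      ((guLin (by rw [Nat.card_eq_fintype_card, hF]) h hn hn0 (fun f hf hd => hs f hf (hd.trans hn)) (htyp n hn)
        (t.hyp n hn)).ln a) B x)
    (helab : ∀ D : Subgroup (GU n F q), IsDefectGroup 2 𝔐 B D → ∃ A : Subgroup (GU n F q), A ≤ D ∧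
      (∀ x ∈ A, ∀ y ∈ A, x * y = y * x) ∧ (∀ x ∈ A, x ^ 2 = 1) ∧ Nat.card A = 2 ^ totW (-(q : ℤ)) M 2 s.t)
    {D' : Subgroup (suS F n q)} (hD' : IsDefectGroup 2 𝔐 B' D') {r : ℕ} (hr : SectionalPRankLE 2 r D') :
    blockRank 2 B' ≤ 2 ^ r := by
  classical
  have hF' : Nat.card F = q ^ 2 := by rw [Nat.card_eq_fintype_card, hF]
  have hnor : ∀ n, ((fun n => suS F n q) n).Normal := fun n => by
    change (suS F n q).Normal
    unfold suS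
    infer_instance
  have hodd := odd_q hF h2
  have hQ2 : ((-(q : ℤ) : ℤ) : ZMod 2) = 1 := by
    have h1 : Odd (-(q : ℤ)) := ((Int.odd_coe_nat q).2 hodd).neg
    obtain ⟨r, hr⟩ := h1
    rw [hr]
    push_cast
    have h2' : (2 : ZMod 2) = 0 := rfl
    rw [h2', zero_mul, zero_add]
  exact H577.GUX.exc_tower (Q := -(q : ℤ)) (N := N) (𝒢 := fun n => GU n F q) (ℛ := fun {n} hn => t.R n hn)
    (𝒮 := fun n => suS F n q) (fun n _ => isCyclic_quot)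
    (fun {n} hn hn0 => guLin hF' h hn hn0 (fun f hf hd => hs f hf (hd.trans hn)) (htyp n hn) (t.hyp n hn)) h𝔐 hQ2
    (m := m) (fun {n} hn hnm => t.bij n m hn hnm) hone (fun n hn0 h4 a ha => center_four_gu hF h n hn0 h4 a ha)
    (splitTower_gu hF h2 h67 t htyp h𝔐 hone) hn hn0 hm hB hB' hcov hχ hχs hsp δ₀ h₁ hw hNz helab hD' hr

end Cfsg.Agent.H139.GUX
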