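import Cfsg.Agent.H166.GUC.Odd

/-!
# S4537: `GU_a × GU_a` in `GU_{2a}`, the swap, the centralizer of `diag(-1, 1)`
-/

set_option autoImplicit false
set_option linter.unusedSectionVars false

namespace Cfsg.Agent.H139.GUX

open Cfsg Module Cfsg.Agent.ClassicalGeometry Cfsg.Agent.H615.GU Cfsg.Agent.H624.Sl Cfsg.Agent.H166.GUC
open scoped MatrixGroups

universe u

variable {F : Type u} [Field F] [Fintype F] {q a n : ℕ}

/-- the standard isomorphism -/
noncomputable def ee (F : Type u) [Field F] (a : ℕ) : ((Fin a → F) × (Fin a → F)) ≃ₗ[F] (Fin (a + a) → F) :=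
  (LinearEquiv.sumArrowLequivProdArrow (Fin a) (Fin a) F F).symm.trans (LinearEquiv.funCongrLeft F F finSumFinEquiv.symm)

theorem ee_apply (x : (Fin a → F) × (Fin a → F)) (i : Fin (a + a)) :
    ee F a x i = Sum.elim x.1 x.2 (finSumFinEquiv.symm i) := rfl

theorem ee_inl (x : (Fin a → F) × (Fin a → F)) (i : Fin a) : ee F a x (finSumFinEquiv (Sum.inl i)) = x.1 i := by
  rw [ee_apply, Equiv.symm_apply_apply]
  rfl

theorem ee_inr (x : (Fin a → F) × (Fin a → F)) (i : Fin a) : ee F a x (finSumFinEquiv (Sum.inr i)) = x.2 i := by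
  rw [ee_apply, Equiv.symm_apply_apply]
  rfl

theorem herm_ee (x y : (Fin a → F) × (Fin a → F)) :
    hermForm (a + a) F q (ee F a x) (ee F a y) = hermForm a F q x.1 y.1 + hermForm a F q x.2 y.2 := by
  unfold hermForm
  rw [← finSumFinEquiv.sum_comp, Fintype.sum_sum_type]
  simp only [ee_inl, ee_inr]

theorem mulVec_surj (e : ((Fin a → F) × (Fin a → F)) ≃ₗ[F] (Fin n → F)) {g h : GL (Fin n) F}
    (H : ∀ v w, g.1.mulVec (e (v, w)) = h.1.mulVec (e (v, w))) : g = h := by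
  refine H901.Sl.ext_mulVec fun x => ?_
  obtain ⟨⟨v, w⟩, rfl⟩ := e.surjective x
  exact H v w

/-- the swap -/
noncomputable def swp (F : Type u) [Field F] (a : ℕ) : GL (Fin (a + a)) F :=
  (glE F (a + a)).symm (((ee F a).symm.trans (LinearEquiv.prodComm F (Fin a → F) (Fin a → F))).trans (ee F a))

theorem swp_mulVec (v w : Fin a → F) : (swp F a).1.mulVec (ee F a (v, w)) = ee F a (w, v) := by
  rw [← glE_apply, swp, MulEquiv.apply_symm_apply]
  change ee F a (LinearEquiv.prodComm F _ _ ((ee F a).symm (ee F a (v, w)))) = _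
  rw [(ee F a).symm_apply_apply]
  rfl

theorem swp_mem : swp F a ∈ GU (a + a) F q := by
  rw [GUBasic.mem_GU_iff]
  intro u v
  obtain ⟨⟨x, y⟩, rfl⟩ := (ee F a).surjective u
  obtain ⟨⟨x', y'⟩, rfl⟩ := (ee F a).surjective v
  have h1 : ((swp F a : GL (Fin (a + a)) F) : Matrix _ _ F).mulVec (ee F a (x, y)) = ee F a (y, x) := swp_mulVec x y
  have h2 : ((swp F a : GL (Fin (a + a)) F) : Matrix _ _ F).mulVec (ee F a (x', y')) = ee F a (y', x') :=
    swp_mulVec x' y'
  rw [h1, h2, herm_ee, herm_ee, add_comm]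

theorem mul_mulVec' (g h : GL (Fin n) F) (x : Fin n → F) : (g * h).1.mulVec x = g.1.mulVec (h.1.mulVec x) := by
  rw [Units.val_mul, Matrix.mulVec_mulVec]

theorem swp_mul_swp : swp F a * swp F a = 1 := by
  refine mulVec_surj (ee F a) fun v w => ?_
  rw [mul_mulVec', swp_mulVec, swp_mulVec, Units.val_one, Matrix.one_mulVec]

theorem swp_jj (A B : GL (Fin a) F) : swp F a * jj (K := F) (ee F a) (A, B) = jj (K := F) (ee F a) (B, A) * swp F a := by
  refine mulVec_surj (ee F a) fun v w => ?_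
  rw [mul_mulVec', mul_mulVec', jj_mulVec, swp_mulVec, swp_mulVec, jj_mulVec]

theorem jj_mem_iff (hF : Fintype.card F = q ^ 2) (A B : GL (Fin a) F) :
    jj (K := F) (ee F a) (A, B) ∈ GU (a + a) F q ↔ A ∈ GU a F q ∧ B ∈ GU a F q := by
  obtain ⟨σ, hσ⟩ := GUBasic.exists_powHom hF
  have hh := hermForm_hermF hF hσ a
  rw [GUBasic.mem_GU_iff, GUBasic.mem_GU_iff, GUBasic.mem_GU_iff]
  have h2 : ∀ x : (Fin a → F) × (Fin a → F), ((jj (K := F) (ee F a) (A, B) : GL (Fin (a + a)) F) :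
      Matrix _ _ F).mulVec (ee F a x) = ee F a (A.1.mulVec x.1, B.1.mulVec x.2) := fun x => jj_mulVec _ A B x.1 x.2
  constructor
  · intro h
    constructor
    · intro u v
      have h1 := h (ee F a (u, 0)) (ee F a (v, 0))
      rw [h2, h2, herm_ee, herm_ee] at h1
      simpa only [Matrix.mulVec_zero, hh.zero_left, add_zero] using h1
    · intro u v
      have h1 := h (ee F a (0, u)) (ee F a (0, v))
      rw [h2, h2, herm_ee, herm_ee] at h1
      simpa only [Matrix.mulVec_zero, hh.zero_left, zero_add] using h1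
  · rintro ⟨hA, hB⟩ u v
    obtain ⟨x, rfl⟩ := (ee F a).surjective u
    obtain ⟨y, rfl⟩ := (ee F a).surjective v
    rw [h2, h2, herm_ee, herm_ee, hA, hB]

/-- the block diagonal embedding -/
noncomputable def j2 (hF : Fintype.card F = q ^ 2) (a : ℕ) : GU a F q × GU a F q →* GU (a + a) F q where
  toFun x := ⟨jj (K := F) (ee F a) ((x.1 : GL (Fin a) F), (x.2 : GL (Fin a) F)), (jj_mem_iff hF _ _).2 ⟨x.1.2, x.2.2⟩⟩
  map_one' := Subtype.ext (map_one (jj (K := F) (ee F a)))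
  map_mul' x y := Subtype.ext (map_mul (jj (K := F) (ee F a)) ((x.1 : GL (Fin a) F), (x.2 : GL (Fin a) F))
    ((y.1 : GL (Fin a) F), (y.2 : GL (Fin a) F)))

theorem coe_j2 (hF : Fintype.card F = q ^ 2) (x : GU a F q × GU a F q) :
    ((j2 hF a x : GU (a + a) F q) : GL (Fin (a + a)) F) = jj (K := F) (ee F a) ((x.1 : GL (Fin a) F), (x.2 : GL (Fin a) F)) :=
  rfl

theorem j2_injective (hF : Fintype.card F = q ^ 2) : Function.Injective (j2 (F := F) (q := q) hF a) := by
  rintro ⟨x, y⟩ ⟨x', y'⟩ h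
  have h1 := H901.Sl.jj_injective (K := F) (ee F a) (congrArg Subtype.val h)
  rw [Prod.mk.injEq] at h1
  exact Prod.ext (Subtype.ext h1.1) (Subtype.ext h1.2)

/-- the swap in the unitary group -/
noncomputable def sw (F : Type u) [Field F] [Fintype F] (q a : ℕ) : GU (a + a) F q := ⟨swp F a, swp_mem⟩

theorem sw_mul_sw : sw F q a * sw F q a = 1 := Subtype.ext swp_mul_swp

theorem sw_conj (hF : Fintype.card F = q ^ 2) (x y : GU a F q) :
    sw F q a * j2 hF a (x, y) * (sw F q a)⁻¹ = j2 hF a (y, x) := by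
  rw [mul_inv_eq_iff_eq_mul]
  exact Subtype.ext (swp_jj _ _)

theorem odd_q (hF : Fintype.card F = q ^ 2) (h2 : (2 : F) ≠ 0) : Odd q := by
  by_contra h
  rw [Nat.not_odd_iff_even] at h
  apply h2
  have h3 : (2 : ℕ) ∣ Fintype.card F := by
    rw [hF, sq]
    exact Dvd.dvd.mul_right h.two_dvd q
  obtain ⟨r, hr⟩ := CharP.exists F
  have hrp : r.Prime := (CharP.char_is_prime_or_zero F r).resolve_right (CharP.char_ne_zero_of_finite F r)
  obtain ⟨k, -, hk⟩ := FiniteField.card F r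
  rw [hk] at h3
  have h4 := (Nat.prime_dvd_prime_iff_eq Nat.prime_two hrp).1 (Nat.prime_two.dvd_of_dvd_pow h3)
  subst h4
  exact_mod_cast CharP.cast_eq_zero F 2

/-- minus the identity -/
noncomputable def mone (hF : Fintype.card F = q ^ 2) (h2 : (2 : F) ≠ 0) (a : ℕ) : GU a F q :=
  gsc a (-1 : Fˣ) ((odd_q hF h2).add_one.neg_one_pow)

theorem coe_mone (hF : Fintype.card F = q ^ 2) (h2 : (2 : F) ≠ 0) :
    ((mone hF h2 a : GU a F q) : GL (Fin a) F) = scl a (-1 : Fˣ) := rfl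

theorem mone_sq (hF : Fintype.card F = q ^ 2) (h2 : (2 : F) ≠ 0) : mone hF h2 a ^ 2 = 1 := by
  apply Subtype.ext
  change (scl a (-1 : Fˣ)) ^ 2 = 1
  rw [scl, ← map_pow, neg_one_sq, map_one]

theorem orderOf_j2 (hF : Fintype.card F = q ^ 2) (h2 : (2 : F) ≠ 0) :
    ∃ k : ℕ, orderOf (j2 hF a (mone hF h2 a, 1)) = 2 ^ k := by
  have h1 : (j2 hF a (mone hF h2 a, 1)) ^ 2 = 1 := by
    rw [← map_pow, Prod.pow_mk, mone_sq, one_pow]
    exact map_one _
  obtain ⟨i, -, hi⟩ := (Nat.dvd_prime_pow Nat.prime_two).1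
    (show orderOf (j2 hF a (mone hF h2 a, 1)) ∣ 2 ^ 1 by
      rw [pow_one]; exact orderOf_dvd_of_pow_eq_one h1)
  exact ⟨i, hi⟩

theorem centralizer_j2 (hF : Fintype.card F = q ^ 2) (h2 : (2 : F) ≠ 0) :
    Subgroup.centralizer ({j2 hF a (mone hF h2 a, 1)} : Set (GU (a + a) F q)) = (j2 hF a).range := by
  have hz1 : (-1 : Fˣ) ≠ 1 := by
    intro h
    apply h2
    have h1 : ((-1 : Fˣ) : F) = 1 := by rw [h, Units.val_one]
    have h3 : (-1 : F) = 1 := h1
    linear_combination -h3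
  have hgen : Algebra.adjoin F {((-1 : Fˣ) : F)} = ⊤ :=
    Algebra.eq_top_iff.2 fun x => Subalgebra.algebraMap_mem (Algebra.adjoin F {((-1 : Fˣ) : F)}) x
  have hcen := H901.Sl.centralizer_jj (F := F) (K := F) (ee F a) (-1 : Fˣ) hz1 hgen
  ext g
  rw [Subgroup.mem_centralizer_singleton_iff]
  constructor
  · intro h
    have h1 : (g : GL (Fin (a + a)) F) ∈ Subgroup.centralizer ({jj (K := F) (ee F a) (scl a (-1 : Fˣ), 1)} :
        Set (GL (Fin (a + a)) F)) :=
      Subgroup.mem_centralizer_singleton_iff.2 (congrArg Subtype.val h)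
    rw [← hcen] at h1
    obtain ⟨⟨A, B⟩, hAB⟩ := h1
    have h2 : jj (K := F) (ee F a) (A, B) ∈ GU (a + a) F q := by
      rw [hAB]
      exact g.2
    obtain ⟨hA, hB⟩ := (jj_mem_iff hF A B).1 h2
    exact ⟨(⟨A, hA⟩, ⟨B, hB⟩), Subtype.ext hAB⟩
  · rintro ⟨x, rfl⟩
    apply Subtype.ext
    have h1 : jj (K := F) (ee F a) ((x.1 : GL (Fin a) F), (x.2 : GL (Fin a) F)) ∈
        Subgroup.centralizer ({jj (K := F) (ee F a) (scl a (-1 : Fˣ), 1)} : Set (GL (Fin (a + a)) F)) := by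
      rw [← hcen]
      exact ⟨_, rfl⟩
    exact Subgroup.mem_centralizer_singleton_iff.1 h1

theorem det_j2 (hF : Fintype.card F = q ^ 2) (x y : GU a F q) :
    Matrix.GeneralLinearGroup.det ((j2 hF a (x, y) : GU (a + a) F q) : GL (Fin (a + a)) F) =
      Matrix.GeneralLinearGroup.det (x : GL (Fin a) F) * Matrix.GeneralLinearGroup.det (y : GL (Fin a) F) := by
  rw [coe_j2, H901.Sl.det_jj]
  congr 1
  apply Units.ext
  change Algebra.norm F _ = _
  rw [Algebra.norm_self]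
  rfl

theorem mcol_j2 {K : Type*} [Field K] [Algebra F K] (hF : Fintype.card F = q ^ 2) (x y : GU a F q) (c : K) (l : ℕ) :
    mcol (((j2 hF a (x, y) : GU (a + a) F q) : GL (Fin (a + a)) F) : Matrix (Fin (a + a)) (Fin (a + a)) F) c l =
      mcol ((x : GL (Fin a) F) : Matrix (Fin a) (Fin a) F) c l +
        mcol ((y : GL (Fin a) F) : Matrix (Fin a) (Fin a) F) c l := by
  rw [coe_j2, mcol_jj (K := K) (ee F a) (x : GL (Fin a) F) (y : GL (Fin a) F) c l, finrank_self,
    Finset.sum_range_one, pow_zero, pow_one]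

end Cfsg.Agent.H139.GUX
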