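import Cfsg.Agent.H139.GUX.Half
import Cfsg.Agent.H139.GUX.Geo
import Cfsg.Agent.H577.GUX.Split
import Cfsg.Agent.H623.GU.Geo
import Cfsg.Agent.H666.GU.GuLin

/-!
# S4537: the splitting of the blocks of even weight of `GU_n(q)`, `p = 2`

* `splitTower_gu` : the hypothesis `SplitTower` of `H577.GUX.exc_tower` for the unitary groups.
-/

set_option autoImplicit false
set_option linter.unusedSectionVars false

open Cfsg
open scoped ComplexConjugate TensorProduct MatrixGroups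

namespace Cfsg.Agent.H139.GUX

open Cfsg.Agent.H577.GLB.Std Cfsg.Agent.H614 Cfsg.Agent.H614.GLn Cfsg.Agent.H623.GLn Cfsg.Agent.H623.GU
open Cfsg.Agent.H577.GLB.Real (coP PhiF PGen frm OnlyOn cfE)
open Cfsg.Agent.H112.GLB Cfsg.Agent.H608.BlockRank
open Cfsg.Agent.Blocks.Local Cfsg.Agent.Blocks.Basic Cfsg.Agent.H624.Sl
open Cfsg.Agent.H615.GU Cfsg.Agent.H166.GUC

universe u

section one

variable {Q : ℤ} {M : ℕ} [NeZero M] {p n a b : ℕ} {G X Y : Type u} [Group G] [Finite G] [Group X] [Finite X]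
  [Group Y] [Finite Y]

/-- the values at `u (A, B)`, no extension of fields -/
theorem val1_of {R : Rz Q M p n G} {R₁ : Rz (Q ^ 1) M p a X} {R₁' : Rz Q M p a X} {R₂ : Rz Q M p b Y}
    {j : X × Y →* G} {u : G} (h : Val (f := 1) R R₁ R₂ j u) (he : ∀ x g, R₁.om x g = R₁'.om x g) :
    Val1 R R₁' R₂ j u := by
  intro x hx A B hA hB
  rw [h x hx A B hA hB]
  refine map_coP_congr hx ?_ (fun _ _ => rfl)
  intro y hy
  rw [LinearMap.comp_apply, AlgHom.toLinearMap_apply, evR_apply, evR_apply, he,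
    H501.GLn.PhiF_one (PGen_le hy) R.unit]

end one

section tow

variable {K : Type u} [Field K] {θ : K →*₀ ℂ} {Q : ℤ} {M : ℕ} [NeZero M] {N p : ℕ} {G : ℕ → Type u}
  [∀ n, Group (G n)] [∀ n, Finite (G n)]

/-- the values at `u (A, B)` for towers, variable exponent -/
theorem tow_val (hp : p.Prime) {f : ℕ} (hf : 0 < f) (h67 : R67 θ Q M p f) (t : Tow θ Q M N p G) {Q₁ : ℤ}
    (hQ₁ : Q₁ = Q ^ f) {N₁ : ℕ} {G₁ : ℕ → Type u} [∀ n, Group (G₁ n)] [∀ n, Finite (G₁ n)] (t₁ : Tow θ Q₁ M N₁ p G₁)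
    {n l k : ℕ} (hn : n ≤ N) (hl : l ≤ N) (hk : k ≤ N₁) (j : G₁ k × G l →* G n) (c : G₁ k) {z : Kˣ} {a₀ : ℕ}
    (hz : z ^ p ^ a₀ = 1) (hz1 : z ≠ 1) (hmin : ∀ j : ℕ, z ^ (Q ^ j) = z ↔ f ∣ j)
    (htyp : ∀ (A : G₁ k) (B : G l) (x : Kˣ) (i : ℕ), (t.T n hn).typ (j (A, B)) (Quotient.mk (orbSetoid K Q) x) i =
      ∑ i' ∈ Finset.range f, (t₁.T k hk).typ A (Quotient.mk (orbSetoid K Q₁) (x ^ (Q ^ i'))) i +
        (t.T l hl).typ B (Quotient.mk (orbSetoid K Q) x) i)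
    (hsh : ∀ (A : G₁ k) (y : Kˣ), (t₁.T k hk).typ (c * A) (Quotient.mk (orbSetoid K Q₁) y) =
      (t₁.T k hk).typ A (Quotient.mk (orbSetoid K Q₁) (z⁻¹ * y))) :
    ∃ R₁ : Rz (Q ^ f) M p k (G₁ k), Val (t.R n hn) R₁ (t.R l hl) j (j (c, 1)) ∧
      ∀ x g, R₁.om x g = H615.GU.evR θ Q₁ M x ((t₁.T k hk).typ g) := by
  subst hQ₁
  exact ⟨(t₁.hyp k hk).rz, val_of hp hf h67 (t.hyp n hn) (t₁.hyp k hk) (t.hyp l hl) j c hz hz1 hmin htyp hsh
    (t₁.preg k hk) (t.preg l hl), fun x g => rfl⟩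

end tow

section gu

variable {F K : Type u} [Field F] [Fintype F] [Field K] [Algebra F K] {θ : K →*₀ ℂ} {q M N : ℕ} [NeZero M]

/-- **The splitting of the blocks of even weight.** -/
theorem splitTower_gu (hF : Fintype.card F = q ^ 2) (h2 : (2 : F) ≠ 0) (h67 : R67 θ (-(q : ℤ)) M 2 1)
    (t : Tow θ (-(q : ℤ)) M N 2 (fun n => GU n F q)) (htyp : ∀ n hn, IsTypU q n (t.T n hn)) {𝔐 : Ideal AlgInt}
    (h𝔐 : IsPModular 2 𝔐) {m : ℕ}
    (hone : ∀ {n : ℕ} (hn : n ≤ N), 0 < n → n ≤ m → ∀ {B : Set (IrrCharacter (GU n F q))}, IsPBlock 𝔐 B →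
      ∀ {χ : IrrCharacter (GU n F q)}, χ ∈ B → ∀ {s : LabZ (-(q : ℤ)) M m n}, (t.R n hn).IsLb χ s →
      ∀ (ψ : IrrCharacter (GU n F q)) (s' : LabZ (-(q : ℤ)) M m n), (t.R n hn).IsLb ψ s' →
      SameFam (-(q : ℤ)) M 2 s.t s'.t → ψ ∈ B) :
    H577.GUX.SplitTower (Q := -(q : ℤ)) (𝒢 := fun n => GU n F q) (fun {n} hn => t.R n hn)
      (fun n => H614.GU.suS F n q) 𝔐 m := by
  classical
  intro n hn hnm B δ₀ w hw0 ⟨hB, χ, hχ, s, hs, hsp, ho, hw⟩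
  have := isPrime_of_isPModular h𝔐
  have hodd := odd_q hF h2
  have hQ : IsUnit ((-(q : ℤ) : ℤ) : ZMod M) := (t.R n hn).unit
  have hsize := H76.GLB.size_onlyOn hQ s ho
  have hd := RSt.perZ_pos hQ δ₀
  obtain ⟨a, ha⟩ : ∃ a, a = perZ (-(q : ℤ)) M δ₀ * w := ⟨_, rfl⟩
  have hna : n = a + a := by
    rw [hsize, hw, ha]
    ring
  have ha0 : 0 < a := ha ▸ Nat.mul_pos hd hw0
  subst hna
  have haN : a ≤ N := by omega
  have ham : a ≤ m := by omega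
  -- the eigenvalue
  have hz1 : ((-1 : Kˣ)) ≠ 1 := by
    intro h
    apply h2
    have h1 : ((-1 : Kˣ) : K) = 1 := by rw [h, Units.val_one]
    have h3 : (-1 : K) = 1 := h1
    have h4 : algebraMap F K 2 = 0 := by
      rw [map_ofNat]
      linear_combination -h3
    rwa [map_eq_zero] at h4
  have hzQ : ∀ j : ℕ, (-1 : Kˣ) ^ ((-(q : ℤ)) ^ j) = -1 := by
    intro j
    have h1 : Odd ((-(q : ℤ)) ^ j) := (((Int.odd_coe_nat q).2 hodd).neg).pow
    exact h1.neg_one_zpow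
  have hun : Units.map (algebraMap F K).toMonoidHom (-1 : Fˣ) = -1 := by
    apply Units.ext
    change algebraMap F K (-1) = -1
    rw [map_neg, map_one]
  obtain ⟨R₁, hval, hom⟩ := tow_val (p := 2) Nat.prime_two (f := 1) one_pos h67 t (pow_one _).symm t hn haN haN
    (j2 hF a) (mone hF h2 a) (z := (-1 : Kˣ)) (a₀ := 1) (by rw [pow_one, neg_one_sq]) hz1
    (fun j => ⟨fun _ => one_dvd j, fun _ => hzQ j⟩) (by
      intro A B' x i
      rw [Finset.sum_range_one, pow_zero, zpow_one, htyp _ hn, htyp _ haN, htyp _ haN]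
      exact mcol_j2 hF A B' (x : K) i) (by
      intro A y
      rw [htyp _ haN, htyp _ haN]
      have h1 := mcol_scl (K := K) (-1 : Fˣ) (A : GL (Fin a) F) y
      rw [hun] at h1
      exact h1)
  have hval1 : Val1 (t.R (a + a) hn) (t.R a haN) (t.R a haN) (j2 hF a) (j2 hF a (mone hF h2 a, 1)) :=
    val1_of hval (fun x g => hom x g)
  have hQ2 : ((-(q : ℤ) : ℤ) : ZMod 2) = 1 := by
    have h1 : Odd (-(q : ℤ)) := ((Int.odd_coe_nat q).2 hodd).neg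
    obtain ⟨r, hr⟩ := h1
    rw [hr]
    push_cast
    have h2' : (2 : ZMod 2) = 0 := rfl
    rw [h2', zero_mul, zero_add]
  obtain ⟨χ₁, s₁, hχ₁, hsp₁, ho₁, hb₁, hind⟩ := exists_half_same (R := t.R (a + a) hn) (R₁ := t.R a haN) h𝔐 hQ2
    (t.gr a haN) rfl hnm (t.bij a m haN ham) (fun χ₁ χ₂ s₁ s₂ h₁ h₂ h₃ => hone haN ha0 ham (isPBlock_blockOf χ₁) (mem_blockOf_self χ₁) h₁ χ₂ s₂
      h₂ h₃) (j2_injective hF) (orderOf_j2 hF h2)
    (centralizer_j2 hF h2).symm hval1 hB hχ hs hsp ho hw0 (by rw [hw]; ring)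
  refine ⟨a, haN, blockOf 𝔐 (χ₁ : GU a F q → ℂ), ha0, ham, ⟨isPBlock_blockOf χ₁, χ₁, mem_blockOf_self χ₁, s₁, hχ₁,
    hsp₁, ho₁, hb₁⟩, ?_⟩
  refine ⟨Subgroup.centralizer ({j2 hF a (mone hF h2 a, 1)} : Set (GU (a + a) F q)), j2 hF a, sw F q a, mone hF h2 a,
    j2_injective hF, (centralizer_j2 hF h2).symm, sw_mul_sw, sw_conj hF, orderOf_j2 hF h2, rfl, hind, ?_⟩
  intro x hx y hy
  rw [H614.GU.mem_suS] at hx hy ⊢
  rw [det_j2, hx, hy, one_mul]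

end gu

section center

variable {F : Type u} [Field F] [Fintype F] {q : ℕ}

/-- a central element of order `4` -/
theorem exists_center_four (hF : Fintype.card F = q ^ 2) (h4 : 4 ∣ q + 1) (a : ℕ) (ha : 0 < a) :
    ∃ i ∈ Subgroup.center (GU a F q), orderOf i = 4 := by
  classical
  have hq := Cfsg.Agent.ClassicalGeometry.GUBasic.two_le hF
  obtain ⟨g, hg⟩ := IsCyclic.exists_generator (α := Fˣ)
  have hcard : Fintype.card Fˣ = (q + 1) * (q - 1) := by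
    rw [Fintype.card_units, hF]
    obtain ⟨r, rfl⟩ : ∃ r, q = r + 1 := ⟨q - 1, by omega⟩
    simp only [Nat.add_sub_cancel]
    have h1 : (r + 1) ^ 2 = (r + 1 + 1) * r + 1 := by ring
    rw [h1, Nat.add_sub_cancel]
  have hog : orderOf g = (q + 1) * (q - 1) := by
    rw [← hcard, ← Nat.card_eq_fintype_card]
    exact orderOf_eq_card_of_forall_mem_zpowers hg
  obtain ⟨r, hr⟩ : 4 ∣ orderOf g := by
    rw [hog]
    exact Dvd.dvd.mul_right h4 _
  have hr0 : r ≠ 0 := by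
    rintro rfl
    rw [mul_zero, orderOf_eq_zero_iff] at hr
    exact hr (isOfFinOrder_of_finite g)
  have hz : orderOf (g ^ r) = 4 := by
    rw [orderOf_pow_of_dvd hr0 (hr ▸ Dvd.intro_left 4 rfl), hr, Nat.mul_div_cancel _ (Nat.pos_of_ne_zero hr0)]
  have hz1 : (g ^ r) ^ (q + 1) = 1 := orderOf_dvd_iff_pow_eq_one.1 (hz ▸ h4)
  refine ⟨gsc a (g ^ r) hz1, ?_, by rw [orderOf_gsc ha, hz]⟩
  rw [Subgroup.mem_center_iff]
  intro x
  apply Subtype.ext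
  exact (H623.GU.scl_comm (g ^ r) (x : GL (Fin a) F)).symm

/-- the hypothesis `hc4` of `exc_tower` for the unitary groups -/
theorem center_four_gu {K : Type u} [Field K] [Algebra F K] {θ : K →*₀ ℂ} {M N : ℕ} [NeZero M]
    (hF : Fintype.card F = q ^ 2) (h : CtxQ θ (-(q : ℤ)) M N) (n : ℕ) (hn : 0 < n)
    (h4 : 4 ∣ (H614.GU.suS F n q).index) (a : ℕ) (ha : 0 < a) :
    ∃ i ∈ Subgroup.center (GU a F q), orderOf i = 4 :=
  exists_center_four hF (h4.trans (H666.GU.index_suS_dvd (by rw [Nat.card_eq_fintype_card, hF]) h hn)) a ha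

end center

end Cfsg.Agent.H139.GUX
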